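import Cfsg.Agent.SporadicStructure.U43Perm
import Cfsg.Agent.SporadicStructure.U43Herm
import Cfsg.Agent.SporadicStructure.PsuMatch
import Cfsg.Agent.S0280
import Cfsg.Agent.Mrg.Omega.ML.OddExc
import Cfsg.Agent.Omega.KFacts
import Cfsg.Agent.Mrg.Omega.ML.InOf
import Cfsg.Agent.Mrg.Omega.TwoF.OrthTie
import Cfsg.Agent.S0292
import Cfsg.Agent.S0293
import Cfsg.Agent.S0294

-- merged: Cfsg.Agent.Omega.ML.UFour.Data
section

/-!
# `U₄(3)` on 280 points: centraliser of an involution, Sylow 2-subgroup (data and checks; helper844)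

Letters: `0 = A`, `1 = B` (the generators of `U43Perm`), `2`, `3` generate `C(B)` (order 1152), `1`, `4 .. 9` a Sylow
2-subgroup in `C(B)` with normal form `nf`.  Elements of the group are determined by the images of `10`, `88`, `0`.
-/

set_option autoImplicit false
set_option maxRecDepth 100000

namespace Cfsg.Agent.Omega.ML.UFour.Data

open Cfsg.Agent.SporadicStructure.PermChain Cfsg.Agent.SporadicStructure.U43Perm

/-- table of the letter `2` -/
def t2 : ℕ := 0x1a9383c04523a0706b48039bc4a169da2ee3800595c554396cf70a4b364b4283f1c036b365b84c68a1209a1e8909ae5be2508849c48c20adc848b30100c30d700416c62862f97ec1601a0f29f4306844194cc0dcadd17238bf10752454a0763c1452d704af57459043f07278782802a92519b1d6215885ccc9d0e131a20261314968f2e2ad6a7d7b4114c772845906ff1502d2a671b015eea1843c90ad56733400f82f2a818ec809508a3279c1ce311233b8309c07bec608d39b0d98d200a9c28754128868f53d0b1df0b739b467133a3915043683f478d82c0bd5a0d6d9a612b23e1943e3756121f4316333d94d344019ac64268ec56bc7f21128802240960236a13ca69b5791dd29e1ea6014da7320628a9831fca2722eb7092f935075271237149e3154d080aced01b1190c94b95c7cbb37bd1683a5c0fe1c27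
/-- table of the letter `3` -/
def t3 : ℕ := 0x580fc0cca5eb90381013314a5145a0cc6afc533409ef54d208fa952e1281e2e6d40daa153c4215e70648516a567f83580f86e0913f16232640098490f1ee163d1a43ae588c389acf11c04af0a75104446c05339448a4e20d0cde2f92df6bc5ca80aa3677bf40ee984b2ccf006c0b12c01459fc9c0836bd1acc61391060ab6e839c4a53d8f8a6b3623c9c65a39109988c4ba1d230269991707970860a112613982668788d16409861315049062f95a2547235208f300a20cc33b3b834633b8aa087576bb057053a0a4c49d5716216055536cbabf2a2ea263a0f2d886d7330e62edf442010894201c562e839c553cc70fbe862ac2405dc0a4191946e7c869ac42f3168ec162053bd9a8f06406d424740a2404932dc41761260be45e5e08bf87aa366864d44587aa4dcd13f00d3685692ddb2512cb9cde04838e0c2eb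
/-- table of the letter `4` -/
def t4 : ℕ := 0x4121ce8303a60bcd144bec72ca008b4422e071b110af211315a915f9c4fcf687268ae6a47bf0da63431152cb62e26c6c1572a4d883f8ab31d68c32290f019468ac5e000e315080a2d9f43c33120c620755bb387ce62d430686955101b4e933acc866b7f83cb29f1aa70e89567bc10e61610310051821c2024b40b1c40270e80c78e24705ccc8b5e05124ba773e915124bbc570827527600907ba8dbee4502661f055abccfed98a25156b142bf5ac020c140f2e10291da0b914035fcae3006deb06603e1904f61a84b0e37a0e9686f22444baef6bb2d7a657c8b03e23148dd607a341241302560689d163b019e45f60c0c16c6743342ca51d98a1a25293b576c96a0c9a4126ec2214566f044a6735404c70d32a04212a92ab554edb37129c07b510f5d89e130c054225f41ce4b220b609b1789918ee04531f216dc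
/-- table of the letter `5` -/
def t5 : ℕ := 0x580fc0cca5eb90381013314a5145a0cc6afc533409ef54d208fa952e1281e2e6d40daa153c4215e70648516a567f83580f86e0913f16232640098490f1ee163d1a43ae588c389acf11c04af0a75104446c05339448a4e20d0cde2f92df6bc5ca80aa3677bf40ee984b2ccf006c0b12c01459fc9c0836bd1acc61391060ab6e839c4a53d8f8a6b3623c9c65a39109988c4ba1d230269991707970860a112613982668788d16409861315049062f95a2547235208f300a20cc33b3b834633b8aa087576bb057053a0a4c49d5716216055536cbabf2a2ea263a0f2d886d7330e62edf442010894201c562e839c553cc70fbe862ac2405dc0a4191946e7c869ac42f3168ec162053bd9a8f06406d424740a2404932dc41761260be45e5e08bf87aa366864d44587aa4dcd13f00d3685692ddb2512cb9cde04838e0c2eb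
/-- table of the letter `6` -/
def t6 : ℕ := 0x40500c1319a30e044860f0fed570af612924f99c84f5250c1b8be0ea6970c4529a228cf30ba5321c280fe24567a34cd2f23e9c94cd8232bdac877e315c4231a300b8ad6e80412150b3ac8660432c4beaa24241a50439879d4e0111de160368b35125b5391d8d081aa45a05a8b0b1e30e1f14984b036bfc00070c041045388991eeda5422d5649173e20f001213d98e43ca61960c068381e975a09d92b52739995034b1e8984d132c8f6b381255ca382c3b99ca4852e98e753f235f4bf259c514c36badc326e8820542f66da39f6ac362b864631e8a0806641c54aeed1d2a4a29b0d82c0412898a8829e4e2d9d106878682e05050c5bc8f2ea8d0ad910321769337811010d77a74b2e735a20c4fd1495508f31b1d042947cb04bc2f7f044a865500ac8a6a0f8e60ab93b2f1be37513b0f9176a3c05a3b71894f101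
/-- table of the letter `7` -/
def t7 : ℕ := 0x583e04a3e489b6225245c21a049719686b0e7ba0956f10c04000077faa18c781714d851683b85302f2a116084d6db20f4ec3e9ad48e81c2d5ac8a85b11ec241eb24c6ad7780c0c0a06b94160f0c84c6f0d4f0c9068716939bcee3fbf54ce2593e544935f8cce66110ab024050a025cc9f2bb0cab174b1c1b8ba82a14befe0eb1524e93730454895a33c784b348a518f51dabcee6c6029626040706c2c9987b9140816608d544666c19101f63901d656213b4bafc4a9bc72305e96c4eae3b28e24947512136620604434016e9a1784754978f21c39428504a599f162f37d44010361d329e0224e162186a30211e4200b9ec3c7e1fc51be9d4b93ceae768942122b5f3384c747a3ed96021a2853459388c62ae0431317644401054e5c47195a70321a342ab7692e4cd026a23dae676ab616c518036570906d0b0c901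
/-- table of the letter `8` -/
def t8 : ℕ := 0x5818d0e43491362c697cae9da8b1400c42336a150227c47064f2a5242058b005f1c500f44e1d9e0455cc448c98679d0885c673440aef892d92e063bae00e5f88341e45d5bc4d2c5e3a8c8270b5495446240e8002f156d104988535bf0c0bd3920d40373538df6cb5d9918107382d44a2d0f8ac9208423a120e20c0f5ae1a1fa46147354354dcc27eab8b4c45513db2386e15a10f3831f968d607988d82c188084d0304b1dd48c653b8cca26f9e076e40dac8fa6f7b8f0f416070e4caec5e1a1cec84137460ab1a2694259051298c9d64be1d614083851e7b66c11827f1d21a2e202c43dcc36008a83c2f30abdfe0d0594da4a66d939284056c15c0cc4db0c6b0d5240628936c2b1ec8a110a44e2e442c4da0c0934e12de8615c2a9e7f108cefa4494838a71f23546507492e045b59afdea514fa661ce523bc52a04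
/-- table of the letter `9` -/
def t9 : ℕ := 0x84979326e6321091020d23e0c2a711be2e2e07435aaf021c41b85a3504c8efc7b87c9ebf7dbd858456498c7104760347aef3e9e988db45019ac4d3242db46b12320150174385302f2a3960a774698898370e810a64648845e6de1044cf0e93f89c84197c1cd58bc582e164ba53abc04a5542e546bb5b27800bd502a554b35ba99680158a8544ab4fab93a95391562ad92e895381028249963b87201a60940b9c941e3e0d0cf120d889168e619d9d68724ba864c56a1f8a40c5f26c4c1485450ac39703fc56574285c82e379348782d184592e1511c00960b341b534d7669d46a937c861c8d12ca24f7117eb31e81281b04ca070e0a5da61480c4d8f168058a286029e4745f6c420c0f534c307c0f611c52cdf2da0810c77d2219e3f41c3d804e330d8b8707f11194941441ddc742c37518212039866ce01ad548ad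

/-- the tables -/
def tabs : List ℕ := [tabA, tabB, t2, t3, t4, t5, t6, t7, t8, t9]

/-- `2` and `3` as words in `A`, `B` -/
def w2 : List ℕ := [0, 1, 0, 0, 0, 0, 0, 0, 1, 0, 1]
@[inherit_doc w2] def w3 : List ℕ := [0, 0, 1, 0, 0, 0, 0, 0, 1, 0, 0, 1, 0, 0, 0, 0, 0, 1, 0, 0, 1]

/-- the letters `4 .. 9` as words in `2`, `3` -/
def ws : List (List ℕ) := [[3, 3],
  [3],
  [2, 2, 3, 2, 2],
  [2, 3, 2, 2, 3, 2],
  [2, 3, 3, 2, 3, 2, 2],
  [2, 3, 2, 3, 2, 2, 2]]

theorem chk2 : wordCheck 9 280 tabs w2 t2 = true := by decide +kernel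
theorem chk3 : wordCheck 9 280 tabs w3 t3 = true := by decide +kernel
theorem chkw : (List.range 6).all (fun i => wordCheck 9 280 tabs (ws.getD i []) (tabs.getD (i + 4) 0)) = true := by
  decide +kernel

/-- equal images of the three base points -/
def eq3 (l l' : List ℕ) : Bool :=
  Nat.beq (evalWord 9 tabs l 10) (evalWord 9 tabs l' 10) &&
    (Nat.beq (evalWord 9 tabs l 88) (evalWord 9 tabs l' 88) &&
      Nat.beq (evalWord 9 tabs l 0) (evalWord 9 tabs l' 0))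

/-- the letters are smaller than 10 -/
def ok (l : List ℕ) : Bool := l.all fun s => Nat.blt s 10

/-- equal words -/
def eqw (l l' : List ℕ) : Bool := ok l && (ok l' && eq3 l l')

/-- the letter of bit `k` -/
def lt (k : ℕ) : ℕ := bif Nat.beq k 0 then 1 else 3 + k

/-- the normal form -/
def nfk (e : ℕ) : ℕ → List ℕ
  | 0 => []
  | k + 1 => bif Nat.testBit e k then lt k :: nfk e k else nfk e k

/-- the normal form of the 2-subgroup -/
def nf (e : ℕ) : List ℕ := nfk e 7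

/-- left multiplication by the letters -/
def mt : List ℕ := [0xfdffe7df5efc79eddfa75e5cf871ddbf66dd5af469cd9f265c58f061bd7ee5db56ec59ad5ea55a54e8519d3e64d952e4498d1e245850e0417cfde3d74edc396cdda3564cd8315cbd62d54ad4294c9d225448d0213c7ce1d346cc192c5ca15244c8111c3c60d142c4090c1c205040c001,
  0xf9f7f7ff1e7d7be9d7b77e1c7973d9b776fd1a756bc997367c187163bb72fdeb362ddaab52bd6a3429d29b327ce93225ca8b123c683021c278f5f3f70e5d3b68d5b3760c593358b572f50a552b489532740851233a70f9e3260d9a2a50b9622409921a3078e122058a0a103860200182,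
  0xc997367c187163dbb37eed3a35eaeddfa75e5cf871fffbefcf7ebcf8b76acd8bb72fdea146953ad5ea55912654b9d3e64d870a0c08b123c64e992a446890a05cbd62d54ad4296ad1bb662c19b278f5f3f70e5d3b3260d9a3e78e9c244c8112854b17142c409183470f02001820e18284,
  0xd5af469d9b776fc3831e2cf9b2e4f3e3dfafffbefce5cf871e9d7b77ad5ea55a54e851bf7aedcb76acd8891634781061439b327ce93225ca52a15aa5eb96ac448d021489532774edc3978f5f3f62c19b26ed9ab42854b1720449133a70f9e3260d9a0c1c205040c0011e3868c1628488,
  0xdfbb6ecd7ab4e8cf9b2e4c78b0e0fffbefcf7ebcf8efdbaf4e7cb8f0993674f912654b89163478106143b976f5fb166d5ba956b57a1469535ab17ae52a15aa4a913a642811a27af1fbe72e1dba6ad1bb662c19b21e3868c16284880e1828406080803e78e9c3668c982e58a942648890,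
  0x9d3e64d952e4498d1e245850e041bd7ee5db56ec59ad5ea55a54e851e5cf871e9d7b77f1e7d7bfdffe7dc78b0e0cb933e6d3a35eadfbb6ec00041030c1c205142c409183470f22409922e58a943668c983a70f9e7ef9ebc76e9cb86ed9ab466c98b05eb96ac56a94a84e992a446890a0,
  0x7ef9ebc76e9cb86ed9ab466c98b05eb96ac56a94a84e992a446890a03e78e9c3668c982e58a9426488901e3868c16284880e182840608080fffbefcf7ebcf8efdbaf4e7cb8f0dfbb6ecd7ab4e8cf9b2e4c78b0e0bf7aedcb76acd8af5aad4a74a8d09f3a6cc972a4c88f1a2c4870a0c0]
/-- left multiplication by the inverse letters -/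
def mti : List ℕ := [0xfdffe7df5efc79eddfa75e5cf871ddbf66dd5af469cd9f265c58f061bd7ee5db56ec59ad5ea55a54e8519d3e64d952e4498d1e245850e0417cfde3d74edc396cdda3564cd8315cbd62d54ad4294c9d225448d0213c7ce1d346cc192c5ca15244c8111c3c60d142c4090c1c205040c001,
  0xf9f7f7ff1e7d7be9d7b77e1c7973d9b776fd1a756bc997367c187163bb72fdeb362ddaab52bd6a3429d29b327ce93225ca8b123c683021c278f5f3f70e5d3b68d5b3760c593358b572f50a552b489532740851233a70f9e3260d9a2a50b9622409921a3078e122058a0a103860200182,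
  0xcf9b2e4c78b0e0ddbf66dd5af469ebd3bf6e3c39f2f9f7f7ff1e7d7bb362ddabf7aedca54e851a956b57952e449993674f83021c28f1a2c4489532740851235ab17ae52a15aa6cdda3564cd8317ef9ebc76e9cb83668c983a70f9e20449132c5ca15102450b1c3c60d06080800a10386,
  0xd7ab4e8dbb37eec187163cd9f265f1e7d7bfdffe7de7cb8f0ebd3bf6af5aad4a74a8d0bd7ee5db56ec598b123c683021c2993674f912654b50a552b5cbd62d46890a04a913a676e9cb87af1fbe60c59336cdda352a50b9622409923874f1f3064d1b0e1828406080801c3c60d142c409,
  0xdfbb6ecd7ab4e8cf9b2e4c78b0e0fffbefcf7ebcf8efdbaf4e7cb8f0993674f912654b89163478106143b976f5fb166d5ba956b57a1469535ab17ae52a15aa4a913a642811a27af1fbe72e1dba6ad1bb662c19b21e3868c16284880e1828406080803e78e9c3668c982e58a942648890,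
  0xa54e851a956b57b166d5bbd7ee5d870a0c08b123c693225ca9f3a6ccddbf66dd5af469cd9f265c58f061fdffe7df5efc79eddfa75e5cf8713e78e9c3668c982e58a9426488901e3868c16284880e18284060808042811a24e992a456a94a85ab17ae60c59336cdda3574edc3978f5f3f,
  0x7ef9ebc76e9cb86ed9ab466c98b05eb96ac56a94a84e992a446890a03e78e9c3668c982e58a9426488901e3868c16284880e182840608080fffbefcf7ebcf8efdbaf4e7cb8f0dfbb6ecd7ab4e8cf9b2e4c78b0e0bf7aedcb76acd8af5aad4a74a8d09f3a6cc972a4c88f1a2c4870a0c0]

theorem chkmt : (List.range 7).all (fun k => (List.range 128).all fun e =>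
    Nat.blt (look 7 (mt.getD k 0) e) 128 && eqw (lt k :: nf e) (nf (look 7 (mt.getD k 0) e))) = true := by
  decide +kernel

theorem chkmti : (List.range 7).all (fun k => (List.range 128).all fun e =>
    Nat.blt (look 7 (mti.getD k 0) e) 128 && eqw (lt k :: nf (look 7 (mti.getD k 0) e)) (nf e)) = true := by
  decide +kernel

/-- the images of the three base points -/
def code (e : ℕ) : ℕ :=
  evalWord 9 tabs (nf e) 10 + 512 * (evalWord 9 tabs (nf e) 88 + 512 * evalWord 9 tabs (nf e) 0)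

theorem chkcode : ((List.range 128).map code).Nodup := by decide +kernel

/-- conjugating words -/
def cws : List (List ℕ) := [[],
  [],
  [0, 1, 0, 0, 0, 0, 0, 1, 0, 0, 0, 0, 0, 0, 1, 0, 0, 0, 1, 0, 0, 0, 0, 0, 0, 1],
  [0, 1, 0, 0, 0, 0, 0, 1, 0, 0, 0, 0, 0, 0, 1, 0, 0, 0, 1, 0, 0, 0, 0, 0, 0, 1, 2, 3, 3, 2, 3, 2, 2],
  [],
  [],
  [],
  [],
  [],
  [],
  [],
  [],
  [0, 1, 0, 0, 0, 0, 0, 1, 0, 0, 0, 0, 0, 0, 1, 0, 0, 0, 1, 0, 0, 0, 0, 0, 0, 1, 2, 2],
  [0, 1, 0, 0, 0, 0, 0, 1, 0, 0, 0, 0, 0, 0, 1, 0, 0, 0, 1, 0, 0, 0, 0, 0, 0, 1, 2, 3, 3, 2],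
  [0, 1, 0, 0, 0, 0, 0, 1, 0, 0, 0, 0, 0, 0, 1, 0, 0, 0, 1, 0, 0, 0, 0, 0, 0, 1, 2, 3, 3, 2, 3],
  [0, 1, 0, 0, 0, 0, 0, 1, 0, 0, 0, 0, 0, 0, 1, 0, 0, 0, 1, 0, 0, 0, 0, 0, 0, 1, 2, 2, 3],
  [0, 1, 0, 0, 0, 0, 0, 1, 0, 0, 0, 0, 0, 0, 1, 0, 0, 0, 1, 0, 0, 0, 0, 0, 0, 1, 2, 2, 2],
  [0, 1, 0, 0, 0, 0, 0, 1, 0, 0, 0, 0, 0, 0, 1, 0, 0, 0, 1, 0, 0, 0, 0, 0, 0, 1, 2, 3, 3, 2, 2],
  [0, 1, 0, 0, 0, 0, 0, 1, 0, 0, 0, 0, 0, 0, 1, 0, 0, 0, 1, 0, 0, 0, 0, 0, 0, 1, 2, 3, 3, 3, 2],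
  [0, 1, 0, 0, 0, 0, 0, 1, 0, 0, 0, 0, 0, 0, 1, 0, 0, 0, 1, 0, 0, 0, 0, 0, 0, 1, 2, 3, 2],
  [],
  [],
  [],
  [],
  [],
  [],
  [],
  [],
  [],
  [],
  [],
  [],
  [],
  [],
  [],
  [],
  [0, 1, 0, 0, 0, 0, 0, 1, 0, 0, 0, 0, 0, 0, 1, 0, 0, 0, 1, 0, 0, 0, 0, 0, 0, 1, 2, 3, 3, 3],
  [0, 1, 0, 0, 0, 0, 0, 1, 0, 0, 0, 0, 0, 0, 1, 0, 0, 0, 1, 0, 0, 0, 0, 0, 0, 1, 2, 3],
  [],
  [],
  [0, 1, 0, 0, 0, 0, 0, 1, 0, 0, 0, 0, 0, 0, 1, 0, 0, 0, 1, 0, 0, 0, 0, 0, 0, 1, 2, 3, 3, 2, 3, 2],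
  [0, 1, 0, 0, 0, 0, 0, 1, 0, 0, 0, 0, 0, 0, 1, 0, 0, 0, 1, 0, 0, 0, 0, 0, 0, 1, 2, 2, 3, 2],
  [],
  [],
  [],
  [],
  [],
  [],
  [],
  [],
  [],
  [],
  [0, 1, 0, 0, 0, 0, 0, 1, 0, 0, 0, 0, 0, 0, 1, 0, 0, 0, 1, 0, 0, 0, 0, 0, 0, 1, 2, 2, 3, 2, 3],
  [0, 1, 0, 0, 0, 0, 0, 1, 0, 0, 0, 0, 0, 0, 1, 0, 0, 0, 1, 0, 0, 0, 0, 0, 0, 1, 2, 3, 2, 2],
  [],
  [],
  [],
  [],
  [0, 1, 0, 0, 0, 0, 0, 1, 0, 0, 0, 0, 0, 0, 1, 0, 0, 0, 1, 0, 0, 0, 0, 0, 0, 1, 2],
  [0, 1, 0, 0, 0, 0, 0, 1, 0, 0, 0, 0, 0, 0, 1, 0, 0, 0, 1, 0, 0, 0, 0, 0, 0, 1, 2, 3, 3],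
  [],
  [],
  [],
  [],
  [0, 1, 0, 1, 0, 0, 0, 0, 0, 0, 1, 0, 0, 0, 0, 0, 0, 1, 2, 2],
  [0, 1, 0, 1, 0, 0, 0, 0, 0, 0, 1, 0, 0, 0, 0, 0, 0, 1, 3],
  [0, 1, 0, 1, 0, 0, 0, 0, 0, 0, 1, 0, 0, 0, 0, 0, 0, 1, 2, 2, 3],
  [0, 1, 0, 1, 0, 0, 0, 0, 0, 0, 1, 0, 0, 0, 0, 0, 0, 1],
  [0, 1, 0, 0, 0, 0, 0, 1, 0, 0, 1, 0, 0, 0, 0, 0, 0, 1, 3],
  [0, 1, 0, 0, 0, 0, 0, 1, 0, 0, 1, 0, 0, 0, 0, 0, 0, 1, 3, 2, 3, 2],
  [0, 1, 0, 0, 0, 0, 0, 1, 0, 0, 1, 0, 0, 0, 0, 0, 0, 1],
  [0, 1, 0, 0, 0, 0, 0, 1, 0, 0, 1, 0, 0, 0, 0, 0, 0, 1, 2, 2, 2],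
  [],
  [],
  [],
  [],
  [0, 1, 0, 1, 0, 0, 0, 0, 0, 0, 1, 0, 0, 0, 0, 0, 0, 1, 3, 2, 2],
  [0, 1, 0, 1, 0, 0, 0, 0, 0, 0, 1, 0, 0, 0, 0, 0, 0, 1, 2, 2, 2, 2],
  [0, 1, 0, 1, 0, 0, 0, 0, 0, 0, 1, 0, 0, 0, 0, 0, 0, 1, 2, 3, 3, 2, 3],
  [0, 1, 0, 1, 0, 0, 0, 0, 0, 0, 1, 0, 0, 0, 0, 0, 0, 1, 2, 3, 3, 2],
  [],
  [],
  [],
  [],
  [0, 1, 0, 0, 0, 0, 0, 1, 0, 0, 1, 0, 0, 0, 0, 0, 0, 1, 3, 2, 2, 2],
  [0, 1, 0, 0, 0, 0, 0, 1, 0, 0, 1, 0, 0, 0, 0, 0, 0, 1, 2, 3, 2],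
  [0, 1, 0, 0, 0, 0, 0, 1, 0, 0, 1, 0, 0, 0, 0, 0, 0, 1, 3, 2, 3, 3, 2, 2],
  [0, 1, 0, 0, 0, 0, 0, 1, 0, 0, 1, 0, 0, 0, 0, 0, 0, 1, 2, 3, 3, 2, 3, 2, 2],
  [],
  [],
  [],
  [],
  [],
  [],
  [],
  [],
  [],
  [],
  [],
  [],
  [],
  [],
  [],
  [],
  [],
  [],
  [],
  [],
  [],
  [],
  [],
  [],
  [],
  [],
  [],
  [],
  [],
  [],
  [],
  [],
  [],
  [],
  [],
  [],
  [],
  [],
  [],
  []]

theorem chkc : (List.range 128).all (fun e => Nat.beq e 0 || (!(eq3 (nf e ++ nf e) []) ||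
    eqw (cws.getD e [] ++ nf e) (1 :: cws.getD e []))) = true := by decide +kernel

/-- an element of `C(B)` and its inverse -/
def cw : List ℕ := [3, 2, 3, 2, 2, 2]
@[inherit_doc cw] def cwi : List ℕ := [2, 2, 2, 2, 2, 2, 2, 2, 2, 2, 2, 2, 2, 2, 2, 3, 3, 3, 2, 2, 2, 2, 2, 3, 3, 3]

theorem chkci : eqw (cw ++ cwi) [] = true := by decide +kernel
theorem chkcB : eqw (cw ++ [1]) (1 :: cw) = true := by decide +kernel
theorem chkn : (List.range 128).all (fun e => Nat.beq e 0 || (Nat.beq e 1 || (!(eq3 (nf e ++ nf e) []) ||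
    !(eq3 (cw ++ (nf e ++ (cwi ++ nf e))) (nf e ++ (cw ++ (nf e ++ cwi))))))) = true := by decide +kernel
theorem chkB : (List.range 7).all (fun k => eqw [lt k, 1] [1, lt k]) = true := by decide +kernel
theorem chkBB : eqw [1, 1] [] = true := by decide +kernel

/-- three conjugates of `B` -/
def bw (i : ℕ) : List ℕ := [[1], [0, 1, 0, 0, 0, 0, 0, 0], [0, 0, 0, 1, 0, 0, 0, 0]].getD i []

/-- `A` as a word in the three conjugates -/
def wA : List ℕ := [0, 1, 2, 1, 2, 0, 1, 0, 2, 0, 2, 0, 1, 2, 1, 0, 2, 1, 2, 0, 2, 1, 0, 2]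

theorem chkA : eqw (wA.flatMap bw) [0] = true := by decide +kernel
/-- the conjugating elements and their inverses -/
def av (i : ℕ) : List ℕ := [[], [0], [0, 0, 0]].getD i []
@[inherit_doc av] def avi (i : ℕ) : List ℕ := [[], [0, 0, 0, 0, 0, 0], [0, 0, 0, 0]].getD i []
theorem chkav : (List.range 3).all (fun i => eqw (av i ++ avi i) [] && eqw (bw i) (av i ++ (1 :: avi i))) = true := by
  decide +kernel

end Cfsg.Agent.Omega.ML.UFour.Data

end

-- merged: Cfsg.Agent.Mrg.Omega.ML.UFour.Perm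
section

section


/-!
# `U₄(3)`: three conjugates of an involution generate, one class of involutions, `C(z)` (helper844)

`genBy : GenBy K0 3`, `normEl : NormEl K0` for the group `K0` on 280 points; `psu_iso : PSU 4 F 3 ≃* K0`.
-/

set_option autoImplicit false

namespace Cfsg.Agent.Omega.ML.UFour.Perm

open Cfsg Cfsg.Agent.SporadicStructure Cfsg.Agent.SporadicStructure.PermChain
  Cfsg.Agent.SporadicStructure.U43Perm Cfsg.Agent.SporadicStructure.FieldNine
  Cfsg.Agent.Omega.ML.UFour.Data Cfsg.Agent.Omega.ML.Gen3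

/-! ### The isomorphism -/

theorem card_psu : Nat.card (Cfsg.PSU 4 K9 3) = 3265920 := by
  have h := Cfsg.Agent.S0280.result (F := K9) (q := 3) K9.card_K9' 4 (by norm_num)
  have h1 : Nat.gcd 4 (3 + 1) = 4 := by decide
  have h2 : 3 ^ (4 * (4 - 1) / 2) * ∏ i ∈ Finset.range 4,
      (if Even i then 3 ^ (i + 1) + 1 else 3 ^ (i + 1) - 1) = 52254720 := by decide
  rw [h1, h2] at h
  omega

theorem exists_iso : Nonempty (Cfsg.PSU 4 K9 3 ≃* K0) :=
  PsuMatch.psu_iso_closure_of_match K9.card_K9' (by norm_num) U43Herm.P U43Herm.P_nonprop U43Herm.M σ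
    U43Herm.act (card_psu.le.trans card_ge)

theorem psu_iso {F : Type*} [Field F] [Fintype F] (hF : Fintype.card F = 9) :
    Nonempty (Cfsg.PSU 4 F 3 ≃* K0) := by
  obtain ⟨e⟩ := exists_iso
  obtain ⟨e'⟩ := PsuMatch.psu_iso_of_card (F := F) (K := K9) (hF.trans K9.card_K9.symm) 4 3
  exact ⟨e'.trans e⟩

theorem card_K0 : Nat.card K0 = 3265920 := by
  obtain ⟨e⟩ := exists_iso
  rw [← Nat.card_congr e.toEquiv, card_psu]

/-! ### The base -/

/-- the pointwise stabiliser of the base -/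
def St : Subgroup (Equiv.Perm (Fin 280)) :=
  ((K0 ⊓ MulAction.stabilizer (Equiv.Perm (Fin 280)) b1) ⊓ MulAction.stabilizer (Equiv.Perm (Fin 280)) b2) ⊓
    MulAction.stabilizer (Equiv.Perm (Fin 280)) b3

theorem card_St : Nat.card St ≤ 1 := by
  have h0 : 280 * Nat.card (K0 ⊓ MulAction.stabilizer (Equiv.Perm (Fin 280)) b1 : Subgroup _) ≤ Nat.card K0 :=
    card_step_mask K0 b1 (K0 ⊓ MulAction.stabilizer (Equiv.Perm (Fin 280)) b1) inf_le_left (fun g hg => hg.2)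
      [tabA, tabB] (by
      intro u hu
      simp only [List.mem_cons, List.not_mem_nil, or_false] at hu
      rcases hu with rfl | rfl
      · exact ⟨gen 0, gen_mem 0 (Or.inl rfl), gen_spec 0 (Or.inl rfl)⟩
      · exact ⟨gen 1, gen_mem 1 (Or.inr rfl), gen_spec 1 (Or.inr rfl)⟩) 8 mask0 280 orb0 card0
  have hK1 : ∀ g ∈ K1, g ∈ K0 ⊓ MulAction.stabilizer (Equiv.Perm (Fin 280)) b1 := fun g hg =>
    ⟨K1_le hg, K1_fix g hg⟩
  have h1 : 243 * Nat.card ((K0 ⊓ MulAction.stabilizer (Equiv.Perm (Fin 280)) b1) ⊓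
      MulAction.stabilizer (Equiv.Perm (Fin 280)) b2 : Subgroup _) ≤
        Nat.card (K0 ⊓ MulAction.stabilizer (Equiv.Perm (Fin 280)) b1 : Subgroup _) :=
    card_step_mask (K0 ⊓ MulAction.stabilizer (Equiv.Perm (Fin 280)) b1) b2
      ((K0 ⊓ MulAction.stabilizer (Equiv.Perm (Fin 280)) b1) ⊓ MulAction.stabilizer (Equiv.Perm (Fin 280)) b2)
      inf_le_left (fun g hg => hg.2)
      [tabT, tabR1, tabR2] (by
      intro u hu
      simp only [List.mem_cons, List.not_mem_nil, or_false] at hu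
      rcases hu with rfl | rfl | rfl
      · exact ⟨t, hK1 _ (Subgroup.subset_closure (by simp)), t_spec⟩
      · exact ⟨r1, hK1 _ (Subgroup.subset_closure (by simp)), r1_spec⟩
      · exact ⟨r2, hK1 _ (Subgroup.subset_closure (by simp)), r2_spec⟩) 5 mask1 243 orb1 card1
  have hK2 : ∀ g ∈ K2, g ∈ (K0 ⊓ MulAction.stabilizer (Equiv.Perm (Fin 280)) b1) ⊓
      MulAction.stabilizer (Equiv.Perm (Fin 280)) b2 := fun g hg => ⟨hK1 g (K2_le hg), K2_fix g hg⟩
  have h2 : 48 * Nat.card St ≤ Nat.card ((K0 ⊓ MulAction.stabilizer (Equiv.Perm (Fin 280)) b1) ⊓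
      MulAction.stabilizer (Equiv.Perm (Fin 280)) b2 : Subgroup _) :=
    card_step_mask ((K0 ⊓ MulAction.stabilizer (Equiv.Perm (Fin 280)) b1) ⊓
      MulAction.stabilizer (Equiv.Perm (Fin 280)) b2) b3 St inf_le_left (fun g hg => hg.2)
      [tabR1, tabR2] (by
      intro u hu
      simp only [List.mem_cons, List.not_mem_nil, or_false] at hu
      rcases hu with rfl | rfl
      · exact ⟨r1, hK2 _ (Subgroup.subset_closure (by simp)), r1_spec⟩
      · exact ⟨r2, hK2 _ (Subgroup.subset_closure (by simp)), r2_spec⟩) 4 mask2 48 orb2 card2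
  rw [card_K0] at h0
  omega

/-- **An element is determined by the images of the base points.** -/
theorem ext3 {g h : K0} (h1 : (g : Equiv.Perm (Fin 280)) b1 = (h : Equiv.Perm (Fin 280)) b1)
    (h2 : (g : Equiv.Perm (Fin 280)) b2 = (h : Equiv.Perm (Fin 280)) b2)
    (h3 : (g : Equiv.Perm (Fin 280)) b3 = (h : Equiv.Perm (Fin 280)) b3) : g = h := by
  have hmem : ((h⁻¹ * g : K0) : Equiv.Perm (Fin 280)) ∈ St := by
    have hf : ∀ b : Fin 280, (g : Equiv.Perm (Fin 280)) b = (h : Equiv.Perm (Fin 280)) b →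
        ((h⁻¹ * g : K0) : Equiv.Perm (Fin 280)) b = b := by
      intro b hb
      rw [Subgroup.coe_mul, Subgroup.coe_inv, Equiv.Perm.mul_apply, hb, ← Equiv.Perm.mul_apply, inv_mul_cancel,
        Equiv.Perm.one_apply]
    exact ⟨⟨⟨(h⁻¹ * g).2, hf b1 h1⟩, hf b2 h2⟩, hf b3 h3⟩
  have hs : Subsingleton St := (Finite.card_le_one_iff_subsingleton).1 card_St
  have h4 : (⟨_, hmem⟩ : St) = 1 := Subsingleton.elim _ _
  have h5 : ((h⁻¹ * g : K0) : Equiv.Perm (Fin 280)) = 1 := congrArg Subtype.val h4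
  have h6 : h⁻¹ * g = 1 := Subtype.ext h5
  exact (inv_mul_eq_one.1 h6).symm

/-! ### The letters -/

/-- the letters `0 .. 3` -/
def L1 (s : ℕ) : Equiv.Perm (Fin 280) :=
  if s = 2 then (w2.map gen).prod else if s = 3 then (w3.map gen).prod else gen s

theorem gen_spec' (s : ℕ) (hs : s < 2) (x : Fin 280) : (gen s x : ℕ) = look 9 (tabs.getD s 0) x := by
  rcases (by omega : s = 0 ∨ s = 1) with rfl | rfl
  · rfl
  · rfl

theorem L1_spec (s : ℕ) (hs : s < 4) (x : Fin 280) : (L1 s x : ℕ) = look 9 (tabs.getD s 0) x := by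
  have e2 : ∀ s ∈ w2, s < 2 := by decide
  have e3 : ∀ s ∈ w3, s < 2 := by decide
  rcases (by omega : s < 2 ∨ s = 2 ∨ s = 3) with h | rfl | rfl
  · have h1 : s ≠ 2 := by omega
    have h2 : s ≠ 3 := by omega
    rw [L1, if_neg h1, if_neg h2]
    exact gen_spec' s h x
  · rw [L1, if_pos rfl]
    exact wordCheck_spec chk2 gen (fun s hs => gen_spec' s (e2 s hs)) x
  · rw [L1, if_neg (by norm_num), if_pos rfl]
    exact wordCheck_spec chk3 gen (fun s hs => gen_spec' s (e3 s hs)) x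

/-- the letters -/
def L2 (s : ℕ) : Equiv.Perm (Fin 280) := if s < 4 then L1 s else ((ws.getD (s - 4) []).map L1).prod

theorem L2_spec (s : ℕ) (hs : s < 10) (x : Fin 280) : (L2 s x : ℕ) = look 9 (tabs.getD s 0) x := by
  have e : ∀ i, i < 6 → ∀ s ∈ ws.getD i [], s < 4 := by decide
  rcases Nat.lt_or_ge s 4 with h | h
  · rw [L2, if_pos h]
    exact L1_spec s h x
  · rw [L2, if_neg (by omega)]
    have h1 := List.all_eq_true.1 chkw (s - 4) (List.mem_range.2 (by omega))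
    have h2 := wordCheck_spec h1 L1 (fun s' hs' => L1_spec s' (e (s - 4) (by omega) s' hs')) x
    rw [h2, Nat.sub_add_cancel h]

theorem gen_mem' (s : ℕ) : gen s ∈ K0 := by
  by_cases h : s = 0
  · exact gen_mem s (Or.inl h)
  · have h1 : gen s = gen 1 := by rw [gen, gen, if_neg h, if_neg one_ne_zero]
    rw [h1]
    exact gen_mem 1 (Or.inr rfl)

theorem L1_mem (s : ℕ) : L1 s ∈ K0 := by
  have h1 : ∀ l : List ℕ, (l.map gen).prod ∈ K0 := fun l => Subgroup.list_prod_mem _ (by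
    intro x hx
    obtain ⟨s, -, rfl⟩ := List.mem_map.1 hx
    exact gen_mem' s)
  rw [L1]
  split_ifs
  · exact h1 _
  · exact h1 _
  · exact gen_mem' s

theorem L2_mem (s : ℕ) : L2 s ∈ K0 := by
  rw [L2]
  split_ifs
  · exact L1_mem s
  · refine Subgroup.list_prod_mem _ ?_
    intro x hx
    obtain ⟨s, -, rfl⟩ := List.mem_map.1 hx
    exact L1_mem s

/-- the letter as an element of the group -/
def le (s : ℕ) : K0 := ⟨L2 s, L2_mem s⟩

/-- the element of a word -/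
def wd (l : List ℕ) : K0 := (l.map le).prod

theorem wd_nil : wd [] = 1 := rfl

theorem wd_cons (s : ℕ) (l : List ℕ) : wd (s :: l) = le s * wd l := by
  rw [wd, wd, List.map_cons, List.prod_cons]

theorem wd_append (l l' : List ℕ) : wd (l ++ l') = wd l * wd l' := by
  rw [wd, wd, wd, List.map_append, List.prod_append]

theorem wd_single (s : ℕ) : wd [s] = le s := by rw [wd_cons, wd_nil, mul_one]

theorem coe_wd (l : List ℕ) : (wd l : Equiv.Perm (Fin 280)) = (l.map L2).prod := by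
  induction l with
  | nil => rfl
  | cons s l ih => rw [wd_cons, Subgroup.coe_mul, ih, List.map_cons, List.prod_cons]; rfl

theorem ok_spec {l : List ℕ} (h : ok l = true) : ∀ s ∈ l, s < 10 := by
  intro s hs
  have h1 := List.all_eq_true.1 h s hs
  simpa [Nat.blt] using h1

theorem wd_apply {l : List ℕ} (h : ok l = true) (x : Fin 280) :
    ((wd l : Equiv.Perm (Fin 280)) x : ℕ) = evalWord 9 tabs l x := by
  rw [coe_wd]
  exact evalWord_spec tabs L2 l (fun s hs => L2_spec s (ok_spec h s hs)) x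

theorem eqw_spec {l l' : List ℕ} (h : eqw l l' = true) : wd l = wd l' := by
  simp only [eqw, eq3, Bool.and_eq_true] at h
  obtain ⟨h1, h2, h3, h4, h5⟩ := h
  refine ext3 (Fin.ext ?_) (Fin.ext ?_) (Fin.ext ?_)
  · rw [wd_apply h1, wd_apply h2]
    exact Nat.eq_of_beq_eq_true h3
  · rw [wd_apply h1, wd_apply h2]
    exact Nat.eq_of_beq_eq_true h4
  · rw [wd_apply h1, wd_apply h2]
    exact Nat.eq_of_beq_eq_true h5

theorem eq3_of_eq {l l' : List ℕ} (h1 : ok l = true) (h2 : ok l' = true) (h : wd l = wd l') : eq3 l l' = true := by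
  have e : ∀ x : Fin 280, Nat.beq (evalWord 9 tabs l x) (evalWord 9 tabs l' x) = true := by
    intro x
    rw [← wd_apply h1, ← wd_apply h2, h]
    exact Nat.beq_refl _
  rw [eq3, Bool.and_eq_true, Bool.and_eq_true]
  exact ⟨e b1, e b2, e b3⟩

theorem ok_append {l l' : List ℕ} (h : ok l = true) (h' : ok l' = true) : ok (l ++ l') = true := by
  rw [ok, List.all_append, Bool.and_eq_true]
  exact ⟨h, h'⟩

/-! ### The Sylow 2-subgroup -/

theorem lt_lt (k : ℕ) (hk : k < 7) : lt k < 10 := by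
  have : ∀ k < 7, lt k < 10 := by decide
  exact this k hk

theorem ok_nfk (e : ℕ) : ∀ k ≤ 7, ok (nfk e k) = true
  | 0, _ => rfl
  | k + 1, hk => by
    have ih := ok_nfk e k (by omega)
    rw [nfk]
    cases Nat.testBit e k with
    | false => exact ih
    | true =>
      rw [cond_true, ok, List.all_cons, Bool.and_eq_true]
      refine ⟨?_, ih⟩
      simpa [Nat.blt] using lt_lt k (by omega)

theorem ok_nf (e : ℕ) : ok (nf e) = true := ok_nfk e 7 le_rfl

/-- the generators of the 2-subgroup -/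
def gT : Set K0 := {g | ∃ k < 7, g = le (lt k)}

/-- the 2-subgroup -/
def T : Subgroup K0 := Subgroup.closure gT

theorem mem_nf {g : K0} (hg : g ∈ T) : ∃ e < 128, g = wd (nf e) := by
  have h0 : (1 : K0) = wd (nf 0) := by
    have : nf 0 = [] := by decide
    rw [this, wd_nil]
  refine Subgroup.closure_induction_left (p := fun g _ => ∃ e < 128, g = wd (nf e)) ⟨0, by norm_num, h0⟩ ?_ ?_ hg
  · rintro x ⟨k, hk, rfl⟩ y _ ⟨e, he, rfl⟩
    have h1 := List.all_eq_true.1 (List.all_eq_true.1 chkmt k (List.mem_range.2 hk)) e (List.mem_range.2 he)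
    rw [Bool.and_eq_true] at h1
    have h2 : look 7 (Data.mt.getD k 0) e < 128 := by simpa [Nat.blt] using h1.1
    refine ⟨look 7 (Data.mt.getD k 0) e, h2, ?_⟩
    rw [← eqw_spec h1.2, wd_cons]
  · rintro x ⟨k, hk, rfl⟩ y _ ⟨e, he, rfl⟩
    have h1 := List.all_eq_true.1 (List.all_eq_true.1 chkmti k (List.mem_range.2 hk)) e (List.mem_range.2 he)
    rw [Bool.and_eq_true] at h1
    have h2 : look 7 (Data.mti.getD k 0) e < 128 := by simpa [Nat.blt] using h1.1
    refine ⟨look 7 (Data.mti.getD k 0) e, h2, ?_⟩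
    rw [← eqw_spec h1.2, wd_cons, inv_mul_cancel_left]

theorem nf_mem (e : ℕ) : wd (nf e) ∈ T := by
  have h : ∀ k ≤ 7, wd (nfk e k) ∈ T := by
    intro k
    induction k with
    | zero => intro _; exact T.one_mem
    | succ k ih =>
      intro hk
      rw [nfk]
      cases Nat.testBit e k with
      | false => exact ih (by omega)
      | true =>
        rw [cond_true, wd_cons]
        exact T.mul_mem (Subgroup.subset_closure ⟨k, by omega, rfl⟩) (ih (by omega))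
  exact h 7 le_rfl

theorem card_T : Nat.card T = 128 := by
  apply le_antisymm
  · have h1 : Function.Surjective (fun e : Fin 128 => (⟨wd (nf e), nf_mem e⟩ : T)) := by
      rintro ⟨g, hg⟩
      obtain ⟨e, he, rfl⟩ := mem_nf hg
      exact ⟨⟨e, he⟩, rfl⟩
    have h2 := Nat.card_le_card_of_surjective _ h1
    have h3 : Nat.card (Fin 128) = 128 := by simp
    rwa [h3] at h2
  · have h1 : Function.Injective (fun e : Fin 128 => (⟨wd (nf e), nf_mem e⟩ : T)) := by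
      intro e f hef
      have h2 : wd (nf e) = wd (nf f) := congrArg Subtype.val hef
      have h3 : ∀ x : Fin 280, evalWord 9 tabs (nf e) x = evalWord 9 tabs (nf f) x := by
        intro x
        rw [← wd_apply (ok_nf e), ← wd_apply (ok_nf f), h2]
      have h4 : code e = code f := by
        have e1 := h3 b1
        have e2 := h3 b2
        have e3 := h3 b3
        change evalWord 9 tabs (nf e) 10 = evalWord 9 tabs (nf f) 10 at e1
        change evalWord 9 tabs (nf e) 88 = evalWord 9 tabs (nf f) 88 at e2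
        change evalWord 9 tabs (nf e) 0 = evalWord 9 tabs (nf f) 0 at e3
        rw [code, code, e1, e2, e3]
      have h5 := List.inj_on_of_nodup_map chkcode (List.mem_range.2 e.2) (List.mem_range.2 f.2) h4
      exact Fin.ext h5
    have h2 := Nat.card_le_card_of_injective _ h1
    have h3 : Nat.card (Fin 128) = 128 := by simp
    rwa [h3] at h2

theorem isPGroup_T : IsPGroup 2 T := IsPGroup.of_card (n := 7) (by rw [card_T]; norm_num)

theorem index_T : ¬ 2 ∣ T.index := by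
  have h1 := T.card_mul_index
  rw [card_T, card_K0] at h1
  omega

/-- Every 2-element is conjugate into `T`. -/
theorem exists_conj {x : K0} (hx : x * x = 1) : ∃ g : K0, g * x * g⁻¹ ∈ T := by
  have : Fact (Nat.Prime 2) := ⟨Nat.prime_two⟩
  have h1 : IsPGroup 2 (Subgroup.zpowers x) := by
    intro y
    obtain ⟨k, hk⟩ := Subgroup.mem_zpowers_iff.1 y.2
    refine ⟨1, Subtype.ext ?_⟩
    rw [pow_one, SubgroupClass.coe_pow, ← hk, ← zpow_natCast, ← zpow_mul, mul_comm, zpow_mul, zpow_natCast, pow_two,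
      hx, one_zpow]
    rfl
  obtain ⟨P, hP⟩ := h1.exists_le_sylow
  let Q : Sylow 2 K0 := isPGroup_T.toSylow index_T
  obtain ⟨g, hg⟩ := MulAction.exists_smul_eq K0 P Q
  refine ⟨g, ?_⟩
  have h2 : x ∈ (P : Subgroup K0) := hP (Subgroup.mem_zpowers x)
  have h3 : (Q : Subgroup K0) = T := rfl
  rw [← h3, ← hg]
  exact ⟨x, h2, rfl⟩

/-- **One class of involutions.** -/
theorem exists_B {x : K0} (hx1 : x ≠ 1) (hx : x * x = 1) : ∃ g : K0, g * x * g⁻¹ = le 1 := by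
  obtain ⟨g, hg⟩ := exists_conj hx
  obtain ⟨e, he, h1⟩ := mem_nf hg
  have h2 := List.all_eq_true.1 chkc e (List.mem_range.2 he)
  rw [Bool.or_eq_true, Bool.or_eq_true, Bool.not_eq_true'] at h2
  have hxx : (g * x * g⁻¹) * (g * x * g⁻¹) = 1 := by
    calc (g * x * g⁻¹) * (g * x * g⁻¹) = g * (x * x) * g⁻¹ := by group
      _ = 1 := by rw [hx, mul_one, mul_inv_cancel]
  rcases h2 with h2 | h2 | h2
  · exfalso
    have h3 : e = 0 := Nat.eq_of_beq_eq_true h2
    subst h3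
    have h4 : g * x * g⁻¹ = 1 := h1
    apply hx1
    calc x = g⁻¹ * (g * x * g⁻¹) * g := by group
      _ = 1 := by rw [h4, mul_one, inv_mul_cancel]
  · exfalso
    rw [h1, ← wd_append, ← wd_nil] at hxx
    rw [eq3_of_eq (ok_append (ok_nf e) (ok_nf e)) rfl hxx] at h2
    exact Bool.noConfusion h2
  · have h3 := eqw_spec h2
    rw [wd_append, wd_cons] at h3
    refine ⟨wd (cws.getD e []) * g, ?_⟩
    calc wd (cws.getD e []) * g * x * (wd (cws.getD e []) * g)⁻¹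
        = wd (cws.getD e []) * (g * x * g⁻¹) * (wd (cws.getD e []))⁻¹ := by group
      _ = le 1 := by rw [h1, h3, mul_inv_cancel_right]

/-! ### The normal elementary abelian subgroups of `C(B)` -/

theorem T_comm {g : K0} (hg : g ∈ T) : g * le 1 = le 1 * g := by
  have h1 : T ≤ Subgroup.centralizer {le 1} := by
    rw [T, Subgroup.closure_le]
    rintro _ ⟨k, hk, rfl⟩
    have h2 := eqw_spec (List.all_eq_true.1 chkB k (List.mem_range.2 hk))
    rw [wd_cons, wd_single, wd_cons, wd_single] at h2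
    exact Subgroup.mem_centralizer_singleton_iff.2 h2
  exact Subgroup.mem_centralizer_singleton_iff.1 (h1 hg)

theorem normEl_B (N : Subgroup K0) (h1 : ∀ x ∈ N, x * le 1 = le 1 * x)
    (h2 : ∀ c : K0, c * le 1 = le 1 * c → ∀ x ∈ N, c * x * c⁻¹ ∈ N) (h3 : ∀ x ∈ N, x * x = 1) : Nat.card N ≤ 2 := by
  have : Fact (Nat.Prime 2) := ⟨Nat.prime_two⟩
  -- `N ≤ T`
  have hN : IsPGroup 2 N := fun x => ⟨1, Subtype.ext (by rw [pow_one, pow_two]; exact h3 x x.2)⟩
  have hle : N ≤ T := by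
    have h4 : T ≤ Subgroup.normalizer (N : Set K0) := by
      intro t ht
      rw [Subgroup.mem_normalizer_iff]
      intro x
      refine ⟨fun hx => h2 t (T_comm ht) x hx, fun hx => ?_⟩
      have h5 := h2 t⁻¹ (T_comm (T.inv_mem ht)) _ hx
      have h6 : t⁻¹ * (t * x * t⁻¹) * t⁻¹⁻¹ = x := by group
      rwa [h6] at h5
    have h5 : IsPGroup 2 (T ⊔ N : Subgroup K0) := isPGroup_T.to_sup_of_normal_right' hN h4
    have h6 : T ⊔ N = T := (isPGroup_T.toSylow index_T).is_maximal' h5 le_sup_left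
    rw [← h6]
    exact le_sup_right
  have hkey : ∀ x ∈ N, x = 1 ∨ x = le 1 := by
    intro x hx
    obtain ⟨e, he, rfl⟩ := mem_nf (hle hx)
    have h4 := List.all_eq_true.1 chkn e (List.mem_range.2 he)
    rw [Bool.or_eq_true, Bool.or_eq_true, Bool.or_eq_true, Bool.not_eq_true', Bool.not_eq_true'] at h4
    rcases h4 with h4 | h4 | h4 | h4
    · have h5 : e = 0 := Nat.eq_of_beq_eq_true h4
      subst h5
      exact Or.inl rfl
    · have h5 : e = 1 := Nat.eq_of_beq_eq_true h4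
      subst h5
      right
      have h6 : nf 1 = [1] := by decide
      rw [h6, wd_single]
    · exfalso
      have h5 := h3 _ hx
      rw [← wd_append, ← wd_nil] at h5
      rw [eq3_of_eq (ok_append (ok_nf e) (ok_nf e)) rfl h5] at h4
      exact Bool.noConfusion h4
    · exfalso
      have hc : wd cw * le 1 = le 1 * wd cw := by
        have h5 := eqw_spec chkcB
        rwa [wd_append, wd_single, wd_cons] at h5
      have hci : wd cwi = (wd cw)⁻¹ := by
        have h5 := eqw_spec chkci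
        rw [wd_append, wd_nil] at h5
        exact eq_inv_of_mul_eq_one_right h5
      have h5 := h2 _ hc _ hx
      -- the two elements of `N` commute
      have h6 : wd cw * wd (nf e) * (wd cw)⁻¹ * wd (nf e) = wd (nf e) * (wd cw * wd (nf e) * (wd cw)⁻¹) := by
        have e1 := h3 _ h5
        have e2 := h3 _ hx
        have e3 := h3 _ (N.mul_mem h5 hx)
        have f1 := inv_eq_of_mul_eq_one_left e1
        have f2 := inv_eq_of_mul_eq_one_left e2
        have f3 := inv_eq_of_mul_eq_one_left e3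
        rw [mul_inv_rev, f1, f2] at f3
        exact f3.symm
      have okc : ok cw = true := by decide
      have okci : ok cwi = true := by decide
      have h7 : eq3 (cw ++ (nf e ++ (cwi ++ nf e))) (nf e ++ (cw ++ (nf e ++ cwi))) = true := by
        refine eq3_of_eq (ok_append okc (ok_append (ok_nf e) (ok_append okci (ok_nf e))))
          (ok_append (ok_nf e) (ok_append okc (ok_append (ok_nf e) okci))) ?_
        simp only [wd_append, hci]
        rw [← mul_assoc, ← mul_assoc, h6]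
        group
      rw [h7] at h4
      exact Bool.noConfusion h4
  have h4 : (N : Set K0) ⊆ {1, le 1} := fun x hx => hkey x hx
  have h5 : Nat.card N ≤ Set.ncard ({1, le 1} : Set K0) := by
    rw [← SetLike.coe_sort_coe, Nat.card_coe_set_eq]
    exact Set.ncard_le_ncard h4 (Set.toFinite _)
  refine h5.trans ((Set.ncard_insert_le _ _).trans ?_)
  rw [Set.ncard_singleton]

/-- **The normal elementary abelian 2-subgroups of the centraliser of an involution.** -/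
theorem normEl : NormEl K0 := by
  intro z hz1 hzz N h1 h2 h3
  obtain ⟨g, hg⟩ := exists_B hz1 hzz
  have h4 := normEl_B (N.map (MulAut.conj g).toMonoidHom) (by
    rintro _ ⟨x, hx, rfl⟩
    show g * x * g⁻¹ * le 1 = le 1 * (g * x * g⁻¹)
    rw [← hg]
    calc g * x * g⁻¹ * (g * z * g⁻¹) = g * (x * z) * g⁻¹ := by group
      _ = g * (z * x) * g⁻¹ := by rw [h1 x hx]
      _ = _ := by group) (by
    intro c hc
    rintro _ ⟨x, hx, rfl⟩
    refine ⟨(g⁻¹ * c * g) * x * (g⁻¹ * c * g)⁻¹, h2 _ ?_ x hx, ?_⟩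
    · rw [← hg] at hc
      calc g⁻¹ * c * g * z = g⁻¹ * (c * (g * z * g⁻¹)) * g := by group
        _ = g⁻¹ * (g * z * g⁻¹ * c) * g := by rw [hc]
        _ = _ := by group
    · show g * (g⁻¹ * c * g * x * (g⁻¹ * c * g)⁻¹) * g⁻¹ = c * (g * x * g⁻¹) * c⁻¹
      group) (by
    rintro _ ⟨x, hx, rfl⟩
    rw [← map_mul, h3 x hx, map_one])
  rwa [← Nat.card_congr (N.equivMapOfInjective (MulAut.conj g).toMonoidHom (MulAut.conj g).injective).toEquiv] at h4

/-! ### Generation -/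

theorem closure_top {H : Subgroup K0} (h0 : le 0 ∈ H) (h1 : le 1 ∈ H) : H = ⊤ := by
  rw [eq_top_iff]
  intro g _
  have h2 : K0 ≤ H.map K0.subtype := by
    change Subgroup.closure (Set.range σ) ≤ _
    rw [Subgroup.closure_le]
    rintro _ ⟨s, rfl⟩
    fin_cases s
    · exact ⟨le 0, h0, rfl⟩
    · exact ⟨le 1, h1, rfl⟩
  obtain ⟨x, hx, hxg⟩ := h2 g.2
  have h3 : x = g := Subtype.ext hxg
  exact h3 ▸ hx

theorem wd_flatMap (f : ℕ → List ℕ) (l : List ℕ) : wd (l.flatMap f) = (l.map fun i => wd (f i)).prod := by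
  induction l with
  | nil => rfl
  | cons s l ih => rw [List.flatMap_cons, wd_append, ih, List.map_cons, List.prod_cons]

/-- **Three conjugates of an involution generate.** -/
theorem genBy : GenBy K0 3 := by
  intro x hx1 hxx
  obtain ⟨g, hg⟩ := exists_B hx1 hxx
  refine ⟨fun i => wd (av i) * g, ?_⟩
  set H := Subgroup.closure (Set.range fun i : Fin 3 => wd (av i) * g * x * (wd (av i) * g)⁻¹) with hH
  have hb : ∀ i < 3, wd (bw i) ∈ H := by
    intro i hi
    have h1 := List.all_eq_true.1 chkav i (List.mem_range.2 hi)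
    rw [Bool.and_eq_true] at h1
    have h2 := eqw_spec h1.1
    have h3 := eqw_spec h1.2
    rw [wd_append, wd_nil] at h2
    rw [wd_append, wd_cons, eq_inv_of_mul_eq_one_right h2] at h3
    refine Subgroup.subset_closure ⟨⟨i, hi⟩, ?_⟩
    show wd (av i) * g * x * (wd (av i) * g)⁻¹ = wd (bw i)
    rw [h3, ← hg]
    group
  refine closure_top ?_ ?_
  · have h1 := eqw_spec chkA
    rw [wd_single, wd_flatMap] at h1
    rw [← h1]
    refine Subgroup.list_prod_mem _ ?_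
    intro y hy
    obtain ⟨i, hi, rfl⟩ := List.mem_map.1 hy
    have h2 : ∀ i ∈ wA, i < 3 := by decide
    exact hb i (h2 i hi)
  · have h1 := hb 0 (by norm_num)
    have h2 : bw 0 = [1] := rfl
    rwa [h2, wd_single] at h1

end Cfsg.Agent.Omega.ML.UFour.Perm

end

section


/-!
# (ML), the K-list end: the row `U₄(3)` (all covers, all extensions; helper844)

`row : Dead @IsUFourThree`, the field `u43` of `RowsML`.
-/

set_option autoImplicit false

namespace Cfsg.Agent.Omega.ML.RowUFour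

open Cfsg Cfsg.Agent.Omega.KFacts Cfsg.Agent.Omega.ML.Rows Cfsg.Agent.Omega.ML.Gen3
  Cfsg.Agent.Omega.ML.UFour

universe u v

/-- **The row `u43`.** -/
theorem row : Dead.{u, v} @IsUFourThree := by
  refine dead_of_five ?_
  rintro S _ ⟨F, _, _, hF, ⟨e⟩⟩
  obtain ⟨ε⟩ := Perm.psu_iso hF
  refine ⟨GenBy.equiv (e.trans ε) Perm.genBy, ?_, (Out.rk hF).equiv e, OutLe.equiv e (Out.outLe hF),
    NormEl.equiv (e.trans ε) Perm.normEl⟩
  rw [Nat.card_congr (e.trans ε).toEquiv, Perm.card_K0]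
  norm_num

end Cfsg.Agent.Omega.ML.RowUFour

end

section


/-!
# (ML), the K-list end: `PΩ_{2m+1}(q)`, `PΩ⁺_{2m}(q)`, `PΩ⁻_{2m}(q)`, `q` odd (helper548)

`RK`: `2m + 1`, `2m`, `2m` (`TwoF.RkPOm`); `LB`: `2 q ^ (n - 4)`, `n` the dimension (`TwoF.OrthRow`); orders: S0292, S0293,
S0294.
-/

set_option autoImplicit false

universe u v w

namespace Cfsg.Agent.Omega.ML.RowOm

open Cfsg Cfsg.Agent.Omega.TwoF Cfsg.Agent.LieClassical Cfsg.Agent.LieClassical.OrthCore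

/-! ### numbers -/

theorem prod_le (q k : ℕ) : ∏ i ∈ Finset.range k, (q ^ (2 * (i + 1)) - 1) ≤ q ^ (k * (k + 1)) := by
  induction k with
  | zero => simp
  | succ k ih =>
    rw [Finset.prod_range_succ, show (k + 1) * (k + 1 + 1) = k * (k + 1) + 2 * (k + 1) by ring, pow_add]
    exact Nat.mul_le_mul ih (Nat.sub_le _ _)

theorem bd (k : ℕ) : 2 * (k + 4) ^ 2 + 5 * (k + 4) + 2 ≤ 2 * 3 ^ (2 * k + 4) := by
  induction k with
  | zero => norm_num
  | succ k ih =>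
    rw [show 2 * (k + 1) + 4 = (2 * k + 4) + 2 by ring, pow_add]
    nlinarith [ih, Nat.zero_le k]

theorem bd' (k : ℕ) : 2 * (k + 4) ^ 2 + 3 * (k + 4) ≤ 2 * 3 ^ (2 * k + 3) := by
  induction k with
  | zero => norm_num
  | succ k ih =>
    rw [show 2 * (k + 1) + 3 = (2 * k + 3) + 2 by ring, pow_add]
    nlinarith [ih, Nat.zero_le k]

theorem num_odd {m q : ℕ} (hm : 3 ≤ m) (hq : 3 ≤ q) :
    (2 * m + 1 - 1) * (m * (2 * m + 1) * (q - 1) + 2 * (2 * m + 1) - 1) < (2 * m + 1) * (2 * q ^ (2 * m - 3)) := by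
  rcases Nat.lt_or_ge 3 m with h | h
  · obtain ⟨k, rfl⟩ : ∃ k, m = k + 4 := ⟨m - 4, by omega⟩
    have h1 := OddExcNum.num (q := q) (c := (k + 4) * (2 * (k + 4) + 1)) (a := 2 * (k + 4) + 1) (k := 2 * k + 4) hq
      (by omega) (by have := bd k; nlinarith)
    rwa [show 2 * (k + 4) - 3 = 2 * k + 4 + 1 by omega]
  · obtain rfl : m = 3 := by omega
    obtain ⟨r, rfl⟩ : ∃ r, q = r + 3 := ⟨q - 3, by omega⟩
    norm_num
    nlinarith [Nat.zero_le (r ^ 3), Nat.zero_le (r ^ 2)]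

theorem num_even {m q : ℕ} (hm : 4 ≤ m) (hq : 3 ≤ q) :
    (2 * m - 1) * (m * (2 * m - 1) * (q - 1) + 2 * (2 * m) - 1) < 2 * m * (2 * q ^ (2 * m - 4)) := by
  obtain ⟨k, rfl⟩ : ∃ k, m = k + 4 := ⟨m - 4, by omega⟩
  have h1 := OddExcNum.num (q := q) (c := (k + 4) * (2 * (k + 4) - 1)) (a := 2 * (k + 4)) (k := 2 * k + 3) hq
    (by omega) (by
      have := bd' k
      have h2 : 2 * (k + 4) - 1 = 2 * k + 7 := by omega
      rw [h2]
      nlinarith)
  rwa [show 2 * (k + 4) - 4 = 2 * k + 3 + 1 by omega]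

section

variable {F : Type w} [Field F] [Finite F]

theorem odd_card (h2 : (2 : F) ≠ 0) : Odd (Nat.card F) := by
  have := Fintype.ofFinite F
  rw [Nat.card_eq_fintype_card]
  rcases Nat.even_or_odd (Fintype.card F) with h | h
  · exfalso
    obtain ⟨k, hk⟩ := h
    obtain ⟨p, hc, hp, hp2⟩ := RowOrth.exists_char h2
    obtain ⟨n, -, hn⟩ := FiniteField.card F p
    have h3 : 2 ∣ p ^ (n : ℕ) := ⟨k, by rw [← hn, hk]; ring⟩
    exact hp2 ((Nat.prime_dvd_prime_iff_eq Nat.prime_two hp).1 (Nat.prime_two.dvd_of_dvd_pow h3)).symm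
  · exact h

theorem card_odd {m : ℕ} (hm : 3 ≤ m) (h2 : (2 : F) ≠ 0) :
    Nat.card (Cfsg.POmega F (Cfsg.quadFormOdd m F)) ≤ Nat.card F ^ (m * (2 * m + 1)) := by
  have := Fintype.ofFinite F
  have h1 := Cfsg.Agent.S0292.result (F := F) (q := Nat.card F) Nat.card_eq_fintype_card.symm (odd_card h2) m hm
  have h3 : Nat.card F ^ (m ^ 2) * ∏ i ∈ Finset.range m, (Nat.card F ^ (2 * (i + 1)) - 1) ≤
      Nat.card F ^ (m * (2 * m + 1)) := by
    rw [show m * (2 * m + 1) = m ^ 2 + m * (m + 1) by ring, pow_add]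
    exact Nat.mul_le_mul_left _ (prod_le _ _)
  omega

theorem card_plus {m : ℕ} (hm : 4 ≤ m) :
    Nat.card (Cfsg.POmega F (Cfsg.quadFormPlus m F)) ≤ Nat.card F ^ (m * (2 * m - 1)) := by
  have := Fintype.ofFinite F
  have h1 := Cfsg.Agent.S0293.result (F := F) (q := Nat.card F) Nat.card_eq_fintype_card.symm m hm
  have h3 : Nat.card F ^ (m * (m - 1)) * (Nat.card F ^ m - 1) *
      ∏ i ∈ Finset.range (m - 1), (Nat.card F ^ (2 * (i + 1)) - 1) ≤ Nat.card F ^ (m * (2 * m - 1)) := by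
    obtain ⟨k, rfl⟩ : ∃ k, m = k + 1 := ⟨m - 1, by omega⟩
    rw [Nat.add_sub_cancel, show (k + 1) * (2 * (k + 1) - 1) = (k + 1) * k + (k + 1) + k * (k + 1) by
      rw [show 2 * (k + 1) - 1 = 2 * k + 1 by omega]; ring, pow_add _ _ (k * (k + 1)),
      pow_add _ ((k + 1) * k) (k + 1)]
    exact Nat.mul_le_mul (Nat.mul_le_mul_left _ (Nat.sub_le _ _)) (prod_le _ _)
  rw [← h1] at h3
  exact (Nat.le_mul_of_pos_left _ (Nat.gcd_pos_of_pos_left _ (by norm_num))).trans h3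

theorem card_minus {m : ℕ} (hm : 4 ≤ m) (h2 : (2 : F) ≠ 0) (a b : F)
    (hab : ∀ z₁ z₂ : F, z₁ ^ 2 + a * z₁ * z₂ + b * z₂ ^ 2 = 0 → z₁ = 0 ∧ z₂ = 0) :
    Nat.card (Cfsg.POmega F (Cfsg.quadFormMinus (m - 1) F a b)) ≤ Nat.card F ^ (m * (2 * m - 1)) := by
  have := Fintype.ofFinite F
  have h1 := Cfsg.Agent.S0294.result (F := F) (q := Nat.card F) Nat.card_eq_fintype_card.symm m hm a b hab
  have h0 : 1 ≤ Nat.card F ^ m := Nat.one_le_pow _ _ Nat.card_pos
  have h3 : Nat.card F ^ (m * (m - 1)) * (Nat.card F ^ m + 1) *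
      ∏ i ∈ Finset.range (m - 1), (Nat.card F ^ (2 * (i + 1)) - 1) ≤ 2 * Nat.card F ^ (m * (2 * m - 1)) := by
    calc Nat.card F ^ (m * (m - 1)) * (Nat.card F ^ m + 1) *
          ∏ i ∈ Finset.range (m - 1), (Nat.card F ^ (2 * (i + 1)) - 1)
        ≤ Nat.card F ^ (m * (m - 1)) * (2 * Nat.card F ^ m) * Nat.card F ^ ((m - 1) * (m - 1 + 1)) :=
          Nat.mul_le_mul (Nat.mul_le_mul_left _ (by omega)) (prod_le _ _)
      _ = 2 * Nat.card F ^ (m * (2 * m - 1)) := by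
          obtain ⟨k, rfl⟩ : ∃ k, m = k + 1 := ⟨m - 1, by omega⟩
          rw [Nat.add_sub_cancel, show (k + 1) * (2 * (k + 1) - 1) = (k + 1) * k + (k + 1) + k * (k + 1) by
            rw [show 2 * (k + 1) - 1 = 2 * k + 1 by omega]; ring, pow_add _ _ (k * (k + 1)),
            pow_add _ ((k + 1) * k) (k + 1)]
          ring
  rw [← h1] at h3
  have h4 : 2 ≤ Nat.gcd 4 (Nat.card F ^ m + 1) := by
    have h5 : 2 ∣ Nat.gcd 4 (Nat.card F ^ m + 1) := by
      refine Nat.dvd_gcd (by norm_num) ?_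
      have h6 := (odd_card h2).pow (n := m)
      exact (h6.add_one).two_dvd
    exact Nat.le_of_dvd (Nat.gcd_pos_of_pos_left _ (by norm_num)) h5
  have h5 := (Nat.mul_le_mul_right (Nat.card (Cfsg.POmega F (Cfsg.quadFormMinus (m - 1) F a b))) h4).trans h3
  omega

end

/-- transport of the numerical criterion -/
theorem congr {S : Type w} [Group S] {S' : Type u} [Group S'] {n a N : ℕ} (h1 : Lie.Heis.LB.{w, u, v} S n)
    (h2 : TwoF.RK S a) (h3 : Nat.card S ≤ 2 ^ N) (h4 : (a - 1) * (N + 2 * a - 1) < a * n) (e : S ≃* S') :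
    Num.NumML.{u, v} S' :=
  Num.NumML.of_card (h1.congr e) ((OddExcNum.rk_of_rk h2).of_equiv e) (by rwa [← Nat.card_congr e.toEquiv]) h4

section

variable {F : Type w} [Field F] [Finite F] {p : ℕ} [Fact p.Prime] [CharP F p]

/-- the lower bound in the form `2 q ^ (n - 4)` -/
theorem lb {I : Type} [Fintype I] [DecidableEq I] (hp2 : p ≠ 2) (Q : QuadraticForm F (I → F)) (hQ : Nondeg Q)
    {n : ℕ} (hI : Fintype.card I = n) (hn : 7 ≤ n) :
    Lie.Heis.LB.{w, u, v} (Cfsg.POmega F (⇑Q)) (2 * Nat.card F ^ (n - 4)) := by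
  subst hI
  exact (OrthEl.lb_all.{u, v, w} hp2 Q (OrthEl.nondeg_polarBilin hQ) hn).mono
    (Nat.mul_le_mul_right _ (RowOrth.two_le_orderOf Fact.out hp2))

/-- **`PΩ_{2m+1}(q)`, `q` odd, `m ≥ 3`** -/
theorem odd (hp2 : p ≠ 2) {m : ℕ} (hm : 3 ≤ m) {S : Type u} [Group S]
    (e : Cfsg.POmega F (Cfsg.quadFormOdd m F) ≃* S) : Num.NumML.{u, v} S := by
  have h2 : (2 : F) ≠ 0 := OrthEl.two_ne hp2
  have h3 : 3 ≤ Nat.card F := RowOrth.three_le_card Fact.out hp2
  have h1 := lb.{u, v} hp2 (OrthForms.oddForm m F) (OrthForms.nondeg_oddForm m F h2) (n := 2 * m + 1)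
    (by rw [Fintype.card_sum, Fintype.card_sum, Fintype.card_fin, Fintype.card_unit]; omega) (by omega)
  rw [show 2 * m + 1 - 4 = 2 * m - 3 by omega, OrthForms.coe_oddForm] at h1
  exact congr h1 (RkPOm.odd hm h2)
    ((card_odd hm h2).trans (OddExcNum.pow_le_two_pow Nat.card_pos)) (num_odd hm h3) e

/-- **`PΩ⁺_{2m}(q)`, `q` odd, `m ≥ 4`** -/
theorem plus (hp2 : p ≠ 2) {m : ℕ} (hm : 4 ≤ m) {S : Type u} [Group S]
    (e : Cfsg.POmega F (Cfsg.quadFormPlus m F) ≃* S) : Num.NumML.{u, v} S := by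
  have h2 : (2 : F) ≠ 0 := OrthEl.two_ne hp2
  have h3 : 3 ≤ Nat.card F := RowOrth.three_le_card Fact.out hp2
  have h1 := lb.{u, v} hp2 (OrthForms.plusForm m F) (OrthForms.nondeg_plusForm m F) (n := 2 * m)
    (by rw [Fintype.card_sum, Fintype.card_fin]; omega) (by omega)
  rw [OrthForms.coe_plusForm] at h1
  exact congr h1 (RkPOm.plus hm h2)
    ((card_plus hm).trans (OddExcNum.pow_le_two_pow Nat.card_pos)) (num_even hm h3) e

/-- **`PΩ⁻_{2m}(q)`, `q` odd, `m ≥ 4`** -/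
theorem minus (hp2 : p ≠ 2) {m : ℕ} (hm : 4 ≤ m) (a b : F)
    (hab : ∀ z₁ z₂ : F, z₁ ^ 2 + a * z₁ * z₂ + b * z₂ ^ 2 = 0 → z₁ = 0 ∧ z₂ = 0) {S : Type u} [Group S]
    (e : Cfsg.POmega F (Cfsg.quadFormMinus (m - 1) F a b) ≃* S) : Num.NumML.{u, v} S := by
  have h2 : (2 : F) ≠ 0 := OrthEl.two_ne hp2
  have h3 : 3 ≤ Nat.card F := RowOrth.three_le_card Fact.out hp2
  have h1 := lb.{u, v} hp2 (OrthForms.minusForm (m - 1) F a b) (OrthForms.nondeg_minusForm (m - 1) F a b hab)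
    (n := 2 * m) (by rw [Fintype.card_sum, Fintype.card_sum, Fintype.card_fin, Fintype.card_fin]; omega) (by omega)
  rw [OrthForms.coe_minusForm] at h1
  exact congr h1 (RkPOm.minus hm h2 a b hab)
    ((card_minus hm h2 a b hab).trans (OddExcNum.pow_le_two_pow Nat.card_pos)) (num_even hm h3) e

end

/-! ### The rows -/

/-- **row `PΩ_{2m+1}(q)`, `q` odd** -/
theorem omOdd (K : Type u) [Group K] (h : KFacts.OddChar @Cfsg.IsPOmegaOddChar K) : Num.NumML.{u, v} K := by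
  obtain ⟨p, hp, hp2, F, _, _, _, m, hm, -, ⟨e⟩⟩ := h
  have : Fact p.Prime := ⟨hp⟩
  exact odd hp2 hm e.symm

/-- **row `PΩ⁺_{2m}(q)`, `q` odd** -/
theorem omPlus (K : Type u) [Group K] (h : KFacts.OddChar @Cfsg.IsPOmegaPlusChar K) : Num.NumML.{u, v} K := by
  obtain ⟨p, hp, hp2, F, _, _, _, m, hm, ⟨e⟩⟩ := h
  have : Fact p.Prime := ⟨hp⟩
  exact plus hp2 hm e.symm

/-- **row `PΩ⁻_{2m}(q)`, `q` odd** -/
theorem omMinus (K : Type u) [Group K] (h : KFacts.OddChar @Cfsg.IsPOmegaMinusChar K) : Num.NumML.{u, v} K := by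
  obtain ⟨p, hp, hp2, F, _, _, _, m, a, b, hm, hab, ⟨e⟩⟩ := h
  have : Fact p.Prime := ⟨hp⟩
  exact minus hp2 hm a b hab e.symm

end Cfsg.Agent.Omega.ML.RowOm

end

end
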